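import Groth.Agent.Lib.Neutral.Connected
import Groth.Prelude.Def_AlgGrp
import Mathlib.AlgebraicGeometry.Morphisms.Etale
import Mathlib.AlgebraicGeometry.Morphisms.FlatMono
import Mathlib.AlgebraicGeometry.Fiber

/-!
Étale equivariant maps reflect fixed points for groups with connected fibres.
-/

universe u

open CategoryTheory CategoryTheory.Limits AlgebraicGeometry MonoidalCategory CartesianMonoidalCategory MonObj

namespace GrothLib.FixedEtale

/-- A morphism from a connected scheme with a rational point to an étale scheme over a field is constant. -/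
theorem eq_of_connected {κ : Type u} [Field κ] {F Z : Scheme.{u}} [ConnectedSpace F]
    (π : F ⟶ Spec (CommRingCat.of κ)) (e : Spec (CommRingCat.of κ) ⟶ F) (he : e ≫ π = 𝟙 _)
    (ρ : Z ⟶ Spec (CommRingCat.of κ)) [Etale ρ] (b : F ⟶ Z) (hb : b ≫ ρ = π) :
    b = π ≫ e ≫ b := by
  set σ := e ≫ b with hσ
  have hsec : σ ≫ ρ = 𝟙 _ := by rw [hσ, Category.assoc, hb, he]
  haveI : Subsingleton ↥(Spec (CommRingCat.of κ)) := inferInstanceAs (Subsingleton (PrimeSpectrum κ))
  haveI : IsClosedImmersion σ := isClosedImmersion_of_comp_eq_id ρ σ hsec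
  haveI : Etale σ := by
    haveI : Etale (σ ≫ ρ) := by rw [hsec]; infer_instance
    exact Etale.of_comp σ ρ
  haveI : IsOpenImmersion σ := IsOpenImmersion.of_flat_of_mono σ
  have hcl : IsClopen (b ⁻¹' Set.range σ) :=
    ⟨σ.isClosedEmbedding.isClosed_range.preimage b.continuous,
      σ.isOpenEmbedding.isOpen_range.preimage b.continuous⟩
  have huniv : b ⁻¹' Set.range σ = Set.univ :=
    hcl.eq_univ ⟨e (IsLocalRing.closedPoint κ), IsLocalRing.closedPoint κ, by simp [hσ]⟩
  have hr : Set.range b ⊆ Set.range σ := by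
    rintro _ ⟨z, rfl⟩
    exact huniv.ge (Set.mem_univ z)
  have hl : IsOpenImmersion.lift σ b hr ≫ σ = b := IsOpenImmersion.lift_fac σ b hr
  have : IsOpenImmersion.lift σ b hr = π := by
    calc IsOpenImmersion.lift σ b hr = IsOpenImmersion.lift σ b hr ≫ σ ≫ ρ := by rw [hsec, Category.comp_id]
      _ = π := by rw [← Category.assoc, hl, hb]
  rw [this] at hl
  exact hl.symm

variable {S : Scheme.{u}}

/-- Connected fibres of a group scheme stay connected after extension of the residue field. -/
theorem connectedSpace_tensor_point (G : Over S) [GrpObj G] (hconn : ∀ s : S, ConnectedSpace (G.hom.fiber s))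
    (T : Over S) (t : T.left) :
    ConnectedSpace ↥(G ⊗ Over.mk (T.left.fromSpecResidueField t ≫ T.hom)).left := by
  haveI := hconn (T.hom t)
  let q := Spec.map (T.hom.residueFieldMap t)
  have hq : T.left.fromSpecResidueField t ≫ T.hom = q ≫ S.fromSpecResidueField (T.hom t) :=
    (Scheme.Hom.SpecMap_residueFieldMap_fromSpecResidueField T.hom t).symm
  haveI : Subsingleton ↥(Spec (CommRingCat.of (T.left.residueField t))) :=
    inferInstanceAs (Subsingleton (PrimeSpectrum (T.left.residueField t)))
  haveI : ConnectedSpace ↥(Spec (CommRingCat.of (T.left.residueField t))) := by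
    haveI : Nonempty ↥(Spec (CommRingCat.of (T.left.residueField t))) :=
      ⟨IsLocalRing.closedPoint (T.left.residueField t)⟩
    infer_instance
  let e : Spec (CommRingCat.of (S.residueField (T.hom t))) ⟶ G.hom.fiber (T.hom t) :=
    pullback.lift (S.fromSpecResidueField (T.hom t) ≫ η[G].left) (𝟙 _) (by
      rw [Category.assoc, Over.w η[G]]; simp)
  haveI : ConnectedSpace ↥(pullback (pullback.snd G.hom (S.fromSpecResidueField (T.hom t))) q) :=
    GrothLib.Neutral.connectedSpace_pullback (G.hom.fiberToSpecResidueField (T.hom t))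
    (q : Spec (CommRingCat.of (T.left.residueField t)) ⟶ Spec (CommRingCat.of (S.residueField (T.hom t)))) e
    (pullback.lift_snd _ _ _)
  change ConnectedSpace ↥(pullback G.hom (T.left.fromSpecResidueField t ≫ T.hom))
  rw [hq]
  let i := pullbackLeftPullbackSndIso G.hom (S.fromSpecResidueField (T.hom t)) q
  exact i.hom.homeomorph.surjective.connectedSpace i.hom.continuous

theorem unit_act {G X T : Over S} [GrpObj G] (a : AlgGrp.Action G X) (y : T ⟶ X) :
    lift (toUnit T ≫ η[G]) y ≫ a.act = y := by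
  have : lift (toUnit T ≫ η[G]) y = lift (toUnit T) y ≫ (η[G] ▷ X) := by simp
  rw [this, Category.assoc, a.one_act]
  simp

/-- An étale equivariant morphism reflects fixed points. -/
theorem eq_of_fixed (G : Over S) [GrpObj G] (hconn : ∀ s : S, ConnectedSpace (G.hom.fiber s))
    {X Y : Over S} (a : AlgGrp.Action G X) (f : X ⟶ Y) [Etale f.left] (T : Over S) (x : T ⟶ X)
    (hxf : lift (fst G T) (snd G T ≫ x) ≫ a.act ≫ f = snd G T ≫ x ≫ f) :
    lift (fst G T) (snd G T ≫ x) ≫ a.act = snd G T ≫ x := by
  obtain ⟨a₁, ha₁⟩ : ∃ a₁, a₁ = lift (fst G T) (snd G T ≫ x) ≫ a.act := ⟨_, rfl⟩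
  obtain ⟨a₂, ha₂⟩ : ∃ a₂, a₂ = snd G T ≫ x := ⟨_, rfl⟩
  rw [← ha₁, ← ha₂]
  have hf' : a₁ ≫ f = a₂ ≫ f := by rw [ha₁, ha₂, Category.assoc, Category.assoc, hxf]
  have hf : a₁.left ≫ f.left = a₂.left ≫ f.left := congrArg Over.Hom.left hf'
  let q := pullback.lift a₁.left a₂.left hf
  let jE := pullback.fst q (pullback.diagonal f.left)
  haveI : IsOpenImmersion jE := inferInstance
  haveI : Surjective jE := ⟨fun w => by
    let K : Over S := Over.mk ((G ⊗ T).left.fromSpecResidueField w ≫ (G ⊗ T).hom)
    haveI := connectedSpace_tensor_point G hconn (G ⊗ T) w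
    let pt : K ⟶ G ⊗ T := Over.homMk ((G ⊗ T).left.fromSpecResidueField w)
    let τ : K ⟶ T := pt ≫ snd G T
    let e : K ⟶ G ⊗ K := lift (toUnit K ≫ η[G]) (𝟙 K)
    let m : G ⊗ K ⟶ G ⊗ T := G ◁ τ
    have hm₁ : m ≫ a₁ = lift (fst G K) (snd G K ≫ τ ≫ x) ≫ a.act := by
      simp only [m, ha₁, ← Category.assoc]
      congr 1
      ext <;> simp
    have hm₂ : m ≫ a₂ = snd G K ≫ τ ≫ x := by simp [m, ha₂]
    have hmf : m ≫ a₁ ≫ f = snd G K ≫ τ ≫ x ≫ f := by
      rw [hf', ← Category.assoc, hm₂]; simp
    have he₁ : e ≫ m ≫ a₁ = τ ≫ x := by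
      rw [hm₁, ← Category.assoc]
      simp only [e, comp_lift, lift_fst, lift_snd_assoc, Category.id_comp]
      exact unit_act a (τ ≫ x)
    have he₂ : e ≫ m ≫ a₂ = τ ≫ x := by
      rw [hm₂]; simp [e]
    let g := (τ ≫ x ≫ f).left
    let π : (G ⊗ K).left ⟶ Spec (CommRingCat.of ((G ⊗ T).left.residueField w)) := (snd G K).left
    let ρ : pullback f.left g ⟶ Spec (CommRingCat.of ((G ⊗ T).left.residueField w)) := pullback.snd f.left g
    haveI : Etale ρ := inferInstanceAs (Etale (pullback.snd f.left g))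
    let b₁ : (G ⊗ K).left ⟶ pullback f.left g := pullback.lift (m ≫ a₁).left π (by
      change ((m ≫ a₁) ≫ f).left = (snd G K ≫ τ ≫ x ≫ f).left
      rw [Category.assoc, hmf])
    let b₂ : (G ⊗ K).left ⟶ pullback f.left g := pullback.lift (m ≫ a₂).left π (by
      change ((m ≫ a₂) ≫ f).left = (snd G K ≫ τ ≫ x ≫ f).left
      rw [Category.assoc, ← hf', hmf])
    have hπ : e.left ≫ π = 𝟙 _ := by
      change (e ≫ snd G K).left = _
      simp only [e, lift_snd]; rfl
    have h₁ := eq_of_connected π e.left hπ ρ b₁ (pullback.lift_snd _ _ _)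
    have h₂ := eq_of_connected π e.left hπ ρ b₂ (pullback.lift_snd _ _ _)
    have heb : e.left ≫ b₁ = e.left ≫ b₂ := by
      apply pullback.hom_ext
      · simp only [b₁, b₂, Category.assoc, pullback.lift_fst]
        rw [← Over.comp_left, ← Over.comp_left, he₁, he₂]
      · simp only [b₁, b₂, Category.assoc, pullback.lift_snd]
    have hb : b₁ = b₂ := by rw [h₁, h₂, heb]
    have hm : m ≫ a₁ = m ≫ a₂ := by
      apply Over.OverMorphism.ext
      have := congrArg (· ≫ pullback.fst f.left g) hb
      simpa only [b₁, b₂, pullback.lift_fst] using this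
    have hpt : pt ≫ a₁ = pt ≫ a₂ := by
      have : lift (pt ≫ fst G T) (𝟙 K) ≫ m = pt := by ext <;> simp [m, τ]
      rw [← this, Category.assoc, Category.assoc, hm]
    let l : K.left ⟶ pullback q (pullback.diagonal f.left) :=
      pullback.lift pt.left (pt ≫ a₁).left (by
        apply pullback.hom_ext
        · rw [Category.assoc, Category.assoc, pullback.diagonal_fst, Category.comp_id]
          exact congrArg (pt.left ≫ ·) (pullback.lift_fst a₁.left a₂.left hf)
        · rw [Category.assoc, Category.assoc, pullback.diagonal_snd, Category.comp_id, hpt]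
          exact congrArg (pt.left ≫ ·) (pullback.lift_snd a₁.left a₂.left hf))
    refine ⟨l (IsLocalRing.closedPoint _), ?_⟩
    have : l ≫ jE = pt.left := pullback.lift_fst _ _ _
    exact congr($(this) (IsLocalRing.closedPoint _)).trans
      ((G ⊗ T).left.fromSpecResidueField_apply w _)⟩
  haveI : Epi jE.base := (TopCat.epi_iff_surjective _).mpr jE.surjective
  haveI : IsIso jE := IsOpenImmersion.isIso jE
  apply Over.OverMorphism.ext
  have h1 : inv jE ≫ pullback.snd q (pullback.diagonal f.left) ≫ pullback.diagonal f.left = q := by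
    rw [← pullback.condition, IsIso.inv_hom_id_assoc]
  have e₁ := congrArg (· ≫ pullback.fst f.left f.left) h1
  have e₂ := congrArg (· ≫ pullback.snd f.left f.left) h1
  simp only [q, Category.assoc, pullback.diagonal_fst, pullback.diagonal_snd, Category.comp_id,
    pullback.lift_fst, pullback.lift_snd] at e₁ e₂
  exact e₁.symm.trans e₂

end GrothLib.FixedEtale
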